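import Groth.Agent.SepNormLib.Points
import Groth.Agent.GenSubLib.BaseChange
import Groth.Agent.GenSubLib.WordBC
import Groth.Agent.AlgSpLib.AffineDescent
import Groth.Agent.BorelLib.RedBridge
import Groth.Agent.PowEtCentralLib.Transport
import Groth.Agent.AntiAffLib.BaseChange
import Groth.Agent.AlbLib.AVClass
import Groth.Agent.AlbLib.AVBasic
import Groth.Agent.S11398
import Groth.Agent.S11399

/-!
# Smooth connected affine normal subgroups over separable extensions come from the base field
-/

set_option autoImplicit false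
set_option linter.style.haveILetI false
set_option backward.isDefEq.respectTransparency false
set_option maxHeartbeats 1200000

noncomputable section

universe u

open CategoryTheory CategoryTheory.Limits MonoidalCategory CartesianMonoidalCategory AlgebraicGeometry
open scoped MonObj TensorProduct

attribute [-instance] CategoryTheory.Hom.commGroup

open Groth.Agent

namespace SepNormLib

variable {k K : Type u} [Field k] [Field K] [Algebra k K]

local notation "ξ" => Spec.map (CommRingCat.ofHom (algebraMap k K))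

/-- A group over an extension seen over the base field. -/
abbrev res (L' : Over (Spec (CommRingCat.of K))) : Over (Spec (CommRingCat.of k)) :=
  (Over.map (Spec.map (CommRingCat.ofHom (algebraMap k K)))).obj L'

/-- The map to a group corresponding to one into its base change. -/
def down {G : Over (Spec (CommRingCat.of k))} [GrpObj G] {T : Over (Spec (CommRingCat.of K))}
    (l : T ⟶ Red.bc ξ G) : res (k := k) T ⟶ G :=
  (PowEtCentralLib.adjEquiv ξ T).symm l

theorem down_left {G : Over (Spec (CommRingCat.of k))} [GrpObj G] {T : Over (Spec (CommRingCat.of K))}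
    (l : T ⟶ Red.bc ξ G) : (down l).left = l.left ≫ pullback.fst G.hom ξ := by
  show (((Over.mapPullbackAdj ξ).homEquiv T G).symm l).left = _
  rw [Adjunction.homEquiv_counit, Over.comp_left]
  simp

theorem down_comp {G : Over (Spec (CommRingCat.of k))} [GrpObj G] {T T' : Over (Spec (CommRingCat.of K))}
    (a : T' ⟶ T) (l : T ⟶ Red.bc ξ G) : down (a ≫ l) = (Over.map ξ).map a ≫ down l :=
  Adjunction.homEquiv_naturality_left_symm (Over.mapPullbackAdj ξ) a l

/-- Conjugation preserves a normal subgroup of the base change. -/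
theorem exists_conj {G : Over (Spec (CommRingCat.of k))} [GrpObj G] {L' : Over (Spec (CommRingCat.of K))}
    [GrpObj L'] (l' : L' ⟶ Red.bc ξ G) [IsMonHom l'] (hn : AlgGrp.IsNormalHom l') :
    ∃ s : G ⊗ res L' ⟶ res L', s ≫ down l' = fst G (res L') * (snd G (res L') ≫ down l') * (fst G (res L'))⁻¹ := by
  let TK : Over (Spec (CommRingCat.of K)) := Over.mk ((snd G (res (k := k) L')).left ≫ L'.hom)
  have hw : 𝟙 _ ≫ (G ⊗ res L').hom = ((snd G (res (k := k) L')).left ≫ L'.hom) ≫ ξ := by
    rw [Category.id_comp, Category.assoc]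
    exact (Over.w (snd G (res L'))).symm
  let e : G ⊗ res L' ⟶ (Over.map ξ).obj TK := Over.homMk (𝟙 _)
    ((Category.id_comp _).trans (hw.symm.trans (Category.id_comp _)))
  let e' : (Over.map ξ).obj TK ⟶ G ⊗ res L' := Over.homMk (𝟙 _) hw
  have hee : e ≫ e' = 𝟙 _ := Over.OverMorphism.ext (Category.id_comp _)
  let y : TK ⟶ L' := Over.homMk (snd G (res (k := k) L')).left rfl
  have hy : e ≫ (Over.map ξ).map y = snd G (res L') := Over.OverMorphism.ext (Category.id_comp _)
  let g : TK ⟶ Red.bc ξ G := PowEtCentralLib.adjEquiv ξ TK (e' ≫ fst G (res L'))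
  obtain ⟨n', hn'⟩ := hn TK g y
  refine ⟨e ≫ (Over.map ξ).map n', ?_⟩
  have hd : down g = e' ≫ fst G (res L') := MulEquiv.symm_apply_apply _ _
  rw [Category.assoc, ← down_comp, ← hn', show down (g * (y ≫ l') * g⁻¹) = down g * down (y ≫ l') * (down g)⁻¹ by
    simp only [down, map_mul, map_inv], down_comp, hd, MonObj.comp_mul, MonObj.comp_mul, GrpObj.comp_inv,
    ← Category.assoc e, ← Category.assoc e, hee, hy, Category.id_comp]

/-- The unit is sent to the unit. -/
theorem down_one {G : Over (Spec (CommRingCat.of k))} [GrpObj G] {L' : Over (Spec (CommRingCat.of K))}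
    [GrpObj L'] (l' : L' ⟶ Red.bc ξ G) [IsMonHom l'] :
    ((Over.map ξ).map (η[L'] : 𝟙_ (Over (Spec (CommRingCat.of K))) ⟶ L')) ≫ down l' = 1 := by
  rw [← down_comp, IsMonHom.one_hom]
  show (PowEtCentralLib.adjEquiv ξ (𝟙_ (Over (Spec (CommRingCat.of K))))).symm η[Red.bc ξ G] = 1
  rw [show (η[Red.bc ξ G] : 𝟙_ (Over (Spec (CommRingCat.of K))) ⟶ Red.bc ξ G) = 1 from by
    rw [Hom.one_def, toUnit_unique (toUnit _) (𝟙 _), Category.id_comp], map_one]

/-- Conjugation preserves the words in a morphism stable under conjugation. -/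
theorem exists_conj_word {G X H : Over (Spec (CommRingCat.of k))} [GrpObj G] [GrpObj H] (f : X ⟶ G) (j : H ⟶ G)
    [IsMonHom j] (f' : X ⟶ H) (hf : f' ≫ j = f) (s : G ⊗ X ⟶ X)
    (hs : s ≫ f = fst G X * (snd G X ≫ f) * (fst G X)⁻¹) :
    ∀ l, ∃ m : G ⊗ GenSub.Word X l ⟶ H,
      m ≫ j = fst G (GenSub.Word X l) * (snd G (GenSub.Word X l) ≫ GenSub.word f l) * (fst G (GenSub.Word X l))⁻¹
  | [] => ⟨1, by
      rw [MonObj.one_comp, GenSub.word, MonObj.comp_one, _root_.mul_one, mul_inv_cancel]⟩
  | b :: l => by
      obtain ⟨m, hm⟩ := exists_conj_word f j f' hf s hs l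
      let p : G ⊗ (X ⊗ GenSub.Word X l) ⟶ G ⊗ X := lift (fst _ _) (snd _ _ ≫ fst _ _)
      let q : G ⊗ (X ⊗ GenSub.Word X l) ⟶ G ⊗ GenSub.Word X l := lift (fst _ _) (snd _ _ ≫ snd _ _)
      obtain ⟨a, ha⟩ : ∃ a : G ⊗ X ⟶ H, a ≫ j = fst G X * (snd G X ≫ GenSub.letter f b) * (fst G X)⁻¹ := by
        cases b
        · refine ⟨(s ≫ f')⁻¹, ?_⟩
          rw [GrpObj.inv_comp, Category.assoc, hf, hs, GenSub.letter, GrpObj.comp_inv]
          group
        · exact ⟨s ≫ f', by rw [Category.assoc, hf, hs]; rfl⟩
      refine ⟨(p ≫ a) * (q ≫ m), ?_⟩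
      show _ = fst G (X ⊗ GenSub.Word X l) * (snd G (X ⊗ GenSub.Word X l) ≫
        ((fst X (GenSub.Word X l) ≫ GenSub.letter f b) * (snd X (GenSub.Word X l) ≫ GenSub.word f l))) *
        (fst G (X ⊗ GenSub.Word X l))⁻¹
      rw [MonObj.mul_comp, Category.assoc, Category.assoc, ha, hm]
      simp only [p, q, MonObj.comp_mul, GrpObj.comp_inv, lift_fst, lift_fst_assoc, lift_snd_assoc, Category.assoc]
      group

/-- Conjugation preserves the subgroup generated by a morphism stable under conjugation. -/
theorem exists_conj_generated {G X H : Over (Spec (CommRingCat.of k))} [GrpObj G] [GrpObj H] (f : X ⟶ G) (j : H ⟶ G)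
    [IsMonHom j] [IsClosedImmersion j.left] [AlgebraicGeometry.IsReduced H.left]
    (v : ∀ l, GenSub.Word X l ⟶ H) (hv : ∀ l, v l ≫ j = GenSub.word f l)
    (hd : Dense (⋃ l : ULift.{u} (List Bool), Set.range (v l.down).left.base))
    (f' : X ⟶ H) (hf : f' ≫ j = f) (s : G ⊗ X ⟶ X) (hs : s ≫ f = fst G X * (snd G X ≫ f) * (fst G X)⁻¹) :
    AlgGrp.IsNormalHom j := by
  let c : G ⊗ H ⟶ G := fst G H * (snd G H ≫ j) * (fst G H)⁻¹
  haveI : IsIso (pullback.fst c.left j.left) := by
    haveI : IsClosedImmersion (pullback.fst c.left j.left) := MorphismProperty.pullback_fst _ _ inferInstance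
    refine GenSub.isIso_of_family G.hom H.hom (W := fun l : ULift.{u} (List Bool) => (GenSub.Word X l.down).left)
      (fun l => (v l.down).left) hd (pullback.fst c.left j.left) fun l Y p w e => ?_
    let Y' : Over (Spec (CommRingCat.of k)) := Over.mk (p ≫ G.hom)
    let p' : Y' ⟶ G := Over.homMk p rfl
    let w' : Y' ⟶ GenSub.Word X l.down := Over.homMk w (by
      show w ≫ _ = p ≫ G.hom
      rw [e, Category.assoc, Over.w])
    obtain ⟨m, hm⟩ := exists_conj_word f j f' hf s hs l.down
    have key : lift p' (w' ≫ v l.down) ≫ c = (lift p' w' ≫ m) ≫ j := by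
      rw [Category.assoc, hm]
      simp only [c, MonObj.comp_mul, GrpObj.comp_inv, lift_fst, lift_snd_assoc, Category.assoc, hv]
    refine ⟨pullback.lift (lift p' (w' ≫ v l.down)).left (lift p' w' ≫ m).left congr($(key).left), ?_⟩
    rw [pullback.lift_fst]
    refine pullback.hom_ext ?_ ?_
    · rw [pullback.lift_fst]; exact congr($(lift_fst p' (w' ≫ v l.down)).left)
    · rw [pullback.lift_snd]; exact congr($(lift_snd p' (w' ≫ v l.down)).left)
  have hc : inv (pullback.fst c.left j.left) ≫ pullback.snd c.left j.left ≫ j.left = c.left := by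
    rw [← pullback.condition, IsIso.inv_hom_id_assoc]
  let d : G ⊗ H ⟶ H := Over.homMk (inv (pullback.fst c.left j.left) ≫ pullback.snd c.left j.left) (by
    rw [← Over.w j, Category.assoc, reassoc_of% hc]; exact Over.w c)
  have hdc : d ≫ j = c := Over.OverMorphism.ext (by
    show (inv (pullback.fst c.left j.left) ≫ pullback.snd c.left j.left) ≫ j.left = c.left
    rw [Category.assoc, hc])
  intro T g n
  refine ⟨lift g n ≫ d, ?_⟩
  rw [Category.assoc, hdc]
  simp only [c, MonObj.comp_mul, GrpObj.comp_inv, lift_fst, lift_snd_assoc]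

/-- Words commute with homomorphisms. -/
theorem word_comp {G X H : Over (Spec (CommRingCat.of k))} [GrpObj G] [GrpObj H] (f' : X ⟶ H) (j : H ⟶ G) [IsMonHom j]
    {f : X ⟶ G} (hf : f' ≫ j = f) : ∀ l, GenSub.word f' l ≫ j = GenSub.word f l
  | [] => MonObj.one_comp j
  | b :: l => by
      have hb : GenSub.letter f' b ≫ j = GenSub.letter f b := by
        cases b
        · show f'⁻¹ ≫ j = f⁻¹
          rw [GrpObj.inv_comp, hf]
        · exact hf
      show ((fst X (GenSub.Word X l) ≫ GenSub.letter f' b) * (snd X (GenSub.Word X l) ≫ GenSub.word f' l)) ≫ j =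
        (fst X (GenSub.Word X l) ≫ GenSub.letter f b) * (snd X (GenSub.Word X l) ≫ GenSub.word f l)
      rw [MonObj.mul_comp, Category.assoc, Category.assoc, hb, word_comp f' j hf l]

/-- A morphism stable under conjugation into a subgroup lifts to the identity component, normal as well. -/
theorem exists_normal_component {G X Γ : Over (Spec (CommRingCat.of k))} [GrpObj G] [GrpObj Γ] (i : Γ ⟶ G)
    [IsMonHom i] [IsClosedImmersion i.left] [LocallyOfFiniteType G.hom] (hn : AlgGrp.IsNormalHom i) :
    ∃ (H : Over (Spec (CommRingCat.of k))) (_ : GrpObj H) (e : H ⟶ Γ), IsMonHom e ∧ IsClosedImmersion e.left ∧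
      IsOpenImmersion e.left ∧ ConnectedSpace H.left ∧ AlgGrp.IsNormalHom (e ≫ i) ∧
      Set.range e.left.base = connectedComponent (GrpField.unitPt Γ) := by
  haveI : LocallyOfFiniteType Γ.hom := by rw [← Over.w i]; infer_instance
  obtain ⟨H, _, e, he, hec, hef, her, hei, -⟩ := GrpField.exists_identity_component (G := Γ)
  haveI := he; haveI := hec; haveI := hef; haveI := hei
  rw [← GrpField.connectedComponent_unit] at her
  haveI : IsLocallyNoetherian Γ.left := LocallyOfFiniteType.isLocallyNoetherian Γ.hom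
  haveI : IsOpenImmersion e.left := IsOpenImmersion.of_flat_of_mono e.left
  haveI : IrreducibleSpace H.left := GeometricallyIrreducible.irreducibleSpace_of_subsingleton H.hom
  haveI : ConnectedSpace H.left := IrreducibleSpace.connectedSpace _
  refine ⟨H, inferInstance, e, he, hec, inferInstance, inferInstance, ?_, her⟩
  haveI : Mono i := Over.mono_of_mono_left i
  obtain ⟨d, hd⟩ := hn (G ⊗ H) (fst G H) (snd G H ≫ e)
  have hrange : Set.range d.left.base ⊆ Set.range e.left.base := by
    rintro _ ⟨w, rfl⟩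
    rw [her]
    haveI : GeometricallyConnected H.hom := ⟨fun F _ y Z g p sq => by
      haveI := GeometricallyIrreducible.geometrically_irreducibleSpace (f := H.hom) y g p sq
      infer_instance⟩
    haveI : GeometricallyConnected (fst G H).left := inferInstanceAs (GeometricallyConnected (pullback.fst G.hom H.hom))
    have hF := Scheme.Hom.isConnected_preimage_singleton (fst G H).left ((fst G H).left.base w)
    let u : G ⟶ G ⊗ H := lift (𝟙 G) (toUnit G ≫ η[H])
    have hu : u ≫ d = toUnit G ≫ η[Γ] := by
      rw [← cancel_mono i, Category.assoc, ← hd]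
      simp only [u, MonObj.comp_mul, GrpObj.comp_inv, lift_fst, lift_snd_assoc, Category.assoc, IsMonHom.one_hom_assoc,
        IsMonHom.one_hom]
      rw [show toUnit G ≫ η[G] = 1 from rfl, _root_.mul_one, mul_inv_cancel]
    refine (hF.isPreconnected.image _ d.left.continuous.continuousOn).subset_connectedComponent
      ⟨u.left.base ((fst G H).left.base w), congr($(lift_fst (𝟙 G) (toUnit G ≫ η[H])).left.base _), ?_⟩
      ⟨w, rfl, rfl⟩
    exact (congr($(hu).left.base _)).trans
      (congrArg (η[Γ]).left.base (Subsingleton.elim (α := PrimeSpectrum k) _ _))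
  let d' : G ⊗ H ⟶ H := Over.homMk (IsOpenImmersion.lift e.left d.left hrange) (by
    rw [← Over.w e, IsOpenImmersion.lift_fac_assoc]; exact Over.w d)
  have hd' : d' ≫ e = d := Over.OverMorphism.ext (IsOpenImmersion.lift_fac _ _ _)
  intro T g n
  refine ⟨lift g n ≫ d', ?_⟩
  rw [Category.assoc, ← Category.assoc d', hd', ← hd]
  simp only [MonObj.comp_mul, GrpObj.comp_inv, lift_fst, lift_snd_assoc, Category.assoc]

/-- A point of the extension of scalars lies on a conjugate. -/
theorem exists_conjugate_point [Algebra.IsAlgebraic k K] (L' : Over (Spec (CommRingCat.of K)))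
    (x : ↥(pullback (L'.hom ≫ ξ) (AntiAffLib.extMap (k := k) (AlgebraicClosure k)))) :
    ∃ (σ : Spec (CommRingCat.of (AlgebraicClosure k)) ⟶ Spec (CommRingCat.of K))
      (hσ : σ ≫ ξ = AntiAffLib.extMap (k := k) (AlgebraicClosure k)) (y : ↥(pullback L'.hom σ)),
      (pullback.lift (f := L'.hom ≫ ξ) (pullback.fst L'.hom σ) (pullback.snd L'.hom σ) (by
        rw [← Category.assoc, pullback.condition, Category.assoc, hσ])).base y = x := by
  let ξb := AntiAffLib.extMap (k := k) (AlgebraicClosure k)
  let a : pullback (L'.hom ≫ ξ) ξb ⟶ pullback ξ ξb :=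
    pullback.lift (pullback.fst _ _ ≫ L'.hom) (pullback.snd _ _) (by rw [Category.assoc, pullback.condition])
  obtain ⟨σ, hσ, z, hz⟩ := exists_embedding (F := AlgebraicClosure k) (a.base x)
  refine ⟨σ, hσ, ?_⟩
  let b : Spec (CommRingCat.of (AlgebraicClosure k)) ⟶ pullback ξ ξb :=
    pullback.lift σ (𝟙 _) (by rw [hσ, Category.id_comp])
  have inner : IsPullback (pullback.fst (L'.hom ≫ ξ) ξb) a L'.hom (pullback.fst ξ ξb) := by
    refine IsPullback.of_bot ?_ (by simp [a]) (IsPullback.of_hasPullback ξ ξb)
    simpa [a] using IsPullback.of_hasPullback (L'.hom ≫ ξ) ξb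
  let jj : pullback L'.hom σ ⟶ pullback (L'.hom ≫ ξ) ξb := pullback.lift (pullback.fst L'.hom σ) (pullback.snd L'.hom σ)
    (by rw [← Category.assoc, pullback.condition, Category.assoc, hσ])
  have sq : IsPullback jj (pullback.snd L'.hom σ) a b := by
    refine IsPullback.of_right ?_ ?_ inner
    · rw [show jj ≫ pullback.fst _ _ = pullback.fst L'.hom σ from pullback.lift_fst _ _ _,
        show b ≫ pullback.fst _ _ = σ from pullback.lift_fst _ _ _]
      exact IsPullback.of_hasPullback L'.hom σ
    · refine pullback.hom_ext ?_ ?_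
      · simp [jj, a, b, pullback.condition]
      · simp [jj, a, b]
  obtain ⟨y, hy, -⟩ := Scheme.exists_preimage_of_isPullback sq x z hz.symm
  exact ⟨y, hy⟩

/-- A conjugate of a subgroup is a subgroup over the algebraic closure. -/
theorem exists_conjugate_subgroup {F : Type u} [Field F] {E : Over (Spec (CommRingCat.of k))} [GrpObj E]
    {L' : Over (Spec (CommRingCat.of K))} [GrpObj L'] (l : L' ⟶ Red.bc ξ E) [IsMonHom l] [IsClosedImmersion l.left]
    (σ : Spec (CommRingCat.of F) ⟶ Spec (CommRingCat.of K)) (ξb : Spec (CommRingCat.of F) ⟶ Spec (CommRingCat.of k))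
    (hσ : σ ≫ ξ = ξb) :
    ∃ h : Red.bc σ L' ⟶ Red.bc ξb E, IsMonHom h ∧ IsClosedImmersion h.left ∧
      h.left ≫ pullback.fst E.hom ξb = pullback.fst L'.hom σ ≫ l.left ≫ pullback.fst E.hom ξ := by
  subst hσ
  obtain ⟨e, he, hei, hel⟩ := exists_bc_comp' σ ξ E
  haveI := he; haveI := hei
  haveI : IsMonHom (M := Red.bc σ L') (N := Red.bc σ (Red.bc ξ E)) ((Over.pullback σ).map l) :=
    DiagRep.isMonHom_bc_map _ l
  let m : Red.bc σ L' ⟶ Red.bc σ (Red.bc ξ E) := (Over.pullback σ).map l
  have hm : m.left ≫ pullback.fst (Red.bc ξ E).hom σ = pullback.fst L'.hom σ ≫ l.left := by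
    simp [m, Over.pullback_map_left]
  haveI : IsIso e.left := inferInstanceAs (IsIso ((Over.forget _).map e))
  haveI : IsClosedImmersion m.left := by
    have hs : m.left ≫ pullback.snd (Red.bc ξ E).hom σ = pullback.snd L'.hom σ := by simp [m, Over.pullback_map_left]
    have outer : IsPullback (pullback.fst L'.hom σ) (m.left ≫ pullback.snd (Red.bc ξ E).hom σ)
        (l.left ≫ (Red.bc ξ E).hom) σ := by
      rw [hs, Over.w]
      exact IsPullback.of_hasPullback L'.hom σ
    exact MorphismProperty.of_isPullback (P := @IsClosedImmersion)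
      (IsPullback.of_bot outer hm.symm (IsPullback.of_hasPullback (Red.bc ξ E).hom σ)) inferInstance
  refine ⟨m ≫ e, inferInstance, by rw [Over.comp_left]; infer_instance, ?_⟩
  rw [Over.comp_left, Category.assoc, hel, reassoc_of% hm]

/-- A smooth connected group generated by a separable family of affine subgroups is affine. -/
theorem isAffine_of_generated [Algebra.IsSeparable k K] {E : Over (Spec (CommRingCat.of k))} [GrpObj E]
    [Smooth E.hom] [QuasiCompact E.hom] [ConnectedSpace E.left]
    {L' : Over (Spec (CommRingCat.of K))} [GrpObj L'] [Smooth L'.hom] [ConnectedSpace L'.left] [IsAffine L'.left]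
    (l : L' ⟶ Red.bc ξ E) [IsMonHom l] [IsClosedImmersion l.left]
    (hd : Dense (⋃ w : ULift.{u} (List Bool), Set.range (GenSub.word (down l) w.down).left.base)) :
    IsAffine E.left := by
  let Ω : Type u := AlgebraicClosure k
  let ξb := AntiAffLib.extMap (k := k) Ω
  haveI := gr_separable k K
  haveI : GeometricallyReduced (res (k := k) L').hom := gr_smooth_comp L'.hom ξ
  haveI : QuasiCompact L'.hom := inferInstance
  haveI : Smooth (Red.bc ξb E).hom := inferInstanceAs (Smooth (pullback.snd E.hom _))
  haveI := AlbLib.geometricallyIntegral_grp E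
  haveI : GeometricallyIntegral (Red.bc ξb E).hom := inferInstanceAs (GeometricallyIntegral (pullback.snd E.hom _))
  haveI : ConnectedSpace (Red.bc ξb E).left := AlbLib.connectedSpace_gi _
  obtain ⟨N, _, i, ⟨hi, hci, hNs, hNc, hNa, hNn⟩, hmax, -⟩ := S11398.result Ω (Red.bc ξb E)
  haveI := hi; haveI := hci; haveI := hNs; haveI := hNc; haveI := hNa
  haveI : AlgebraicGeometry.IsReduced ((Over.pullback ξb).obj (res (k := k) L')).left := by
    haveI : GeometricallyReduced (L'.hom ≫ ξ) := ‹GeometricallyReduced (res (k := k) L').hom›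
    exact geometrically_iff_of_commRing_of_isClosedUnderIsomorphisms.mp
      (GeometricallyReduced.geometrically_isReduced (f := L'.hom ≫ ξ)) Ω
  haveI := AlbLib.geometricallyIntegral_grp L'
  obtain ⟨w, hw⟩ : ∃ w, w ≫ i = (Over.pullback ξb).map (down l) := by
    refine DensePts.factors_of_range _ i ?_
    rintro _ ⟨x, rfl⟩
    obtain ⟨σ, hσ, y, hy⟩ := exists_conjugate_point L' x
    obtain ⟨h, hhm, hhc, hhl⟩ := exists_conjugate_subgroup l σ ξb hσ
    haveI := hhm; haveI := hhc
    haveI : Smooth (Red.bc σ L').hom := inferInstanceAs (Smooth (pullback.snd L'.hom _))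
    haveI : GeometricallyIntegral (Red.bc σ L').hom := inferInstanceAs (GeometricallyIntegral (pullback.snd L'.hom _))
    haveI : ConnectedSpace (Red.bc σ L').left := AlbLib.connectedSpace_gi _
    haveI : IsAffine (Red.bc σ L').left := by
      haveI : IsAffineHom L'.hom := isAffineHom_of_isAffine L'.hom
      haveI : IsAffineHom (pullback.snd L'.hom σ) := MorphismProperty.pullback_snd (P := @IsAffineHom) _ _ inferInstance
      exact isAffine_of_isAffineHom (pullback.snd L'.hom σ)
    obtain ⟨φ, hφ⟩ := S11399.result Ω (Red.bc ξb E) N i hNn hmax (Red.bc σ L') h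
    refine ⟨φ.left.base y, ?_⟩
    have e1 : pullback.lift (f := L'.hom ≫ ξ) (pullback.fst L'.hom σ) (pullback.snd L'.hom σ) (by
        rw [← Category.assoc, pullback.condition, Category.assoc, hσ]) ≫ ((Over.pullback ξb).map (down l)).left =
          h.left := by
      refine pullback.hom_ext ?_ ?_
      · rw [hhl]; simp [Over.pullback_map_left, down_left]
      · refine Eq.trans ?_ (Over.w h).symm
        simp [Over.pullback_map_left]
    rw [← hy]
    exact (congr($(hφ).left.base y)).trans (congr($(e1).base y)).symm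
  have hall : ∀ u : (Red.bc ξb E).left, u ∈ Set.range i.left.base := by
    by_contra hne
    push_neg at hne
    obtain ⟨u₀, hu₀⟩ := hne
    let U : Set (Red.bc ξb E).left := (Set.range i.left.base)ᶜ
    have hU : IsOpen U := i.left.isClosedEmbedding.isClosed_range.isOpen_compl
    haveI : UniversallyOpen ξb := inferInstance
    haveI : UniversallyOpen (pullback.fst E.hom ξb) := inferInstance
    obtain ⟨p, ⟨u, hu, rfl⟩, hp⟩ := hd.exists_mem_open ((pullback.fst E.hom ξb).isOpenMap _ hU)
      ⟨_, u₀, hu₀, rfl⟩ |> fun ⟨p, h1, h2⟩ => (⟨p, h2, h1⟩ : ∃ p, _ ∧ p ∈ _)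
    obtain ⟨⟨lw⟩, hpw⟩ := Set.mem_iUnion.1 hp
    obtain ⟨q, hq⟩ := GenSub.mem_range_bc ξb (GenSub.word (down l) lw) u hpw
    obtain ⟨-, p', hp'⟩ := GenSub.exists_word_bc ξb (down l) lw
    obtain ⟨w', hw'⟩ := GenSub.word_factors ((Over.pullback ξb).map (down l)) i w hw lw
    refine hu ⟨(p' ≫ w').left.base q, ?_⟩
    have e2 : (p' ≫ w') ≫ i = (Over.pullback ξb).map (GenSub.word (down l) lw) := by
      rw [Category.assoc, hw', hp']
    exact (congr($(e2).left.base q)).trans hq
  haveI : Surjective i.left := ⟨hall⟩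
  haveI : AlgebraicGeometry.IsReduced (Red.bc ξb E).left := AlgSpLib.isReduced_of_smooth (Red.bc ξb E).hom
  haveI : IsIso i.left := isIso_of_isClosedImmersion_of_surjective i.left
  haveI : IsAffine (Red.bc ξb E).left := IsAffine.of_isIso (inv i.left)
  haveI : IsAffineHom E.hom := MorphismProperty.of_pullback_snd_of_descendsAlong (P := @IsAffineHom)
    (Q := @Surjective ⊓ @Flat ⊓ @QuasiCompact) (g := ξb) ⟨⟨inferInstance, inferInstance⟩, inferInstance⟩
    (show IsAffineHom (Red.bc ξb E).hom from isAffineHom_of_isAffine _)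
  exact isAffine_of_isAffineHom E.hom

/-- Smooth connected affine normal subgroups over a separable extension lie in one from the base field. -/
theorem exists_normal_over_base [Algebra.IsSeparable k K] {G : Over (Spec (CommRingCat.of k))} [GrpObj G]
    [LocallyOfFiniteType G.hom] [QuasiCompact G.hom] {L' : Over (Spec (CommRingCat.of K))} [GrpObj L']
    (l' : L' ⟶ Red.bc ξ G) [IsMonHom l'] [IsClosedImmersion l'.left] [Smooth L'.hom] [ConnectedSpace L'.left]
    [IsAffine L'.left] (hn : AlgGrp.IsNormalHom l') :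
    ∃ (H : Over (Spec (CommRingCat.of k))) (_ : GrpObj H) (j : H ⟶ G) (φ : L' ⟶ Red.bc ξ H), IsMonHom j ∧
      IsClosedImmersion j.left ∧ Smooth H.hom ∧ ConnectedSpace H.left ∧ IsAffine H.left ∧ AlgGrp.IsNormalHom j ∧
      φ ≫ (Over.pullback ξ).map j = l' := by
  let X := res (k := k) L'
  let f : X ⟶ G := down l'
  haveI := gr_separable k K
  haveI : GeometricallyReduced X.hom := gr_smooth_comp L'.hom ξ
  haveI : AlgebraicGeometry.IsReduced X.left := GenSub.isReduced_of_gr X.hom
  obtain ⟨Γ, _, i, hi, hci, hred, hgr, hr, hv, f', hf'⟩ := GenSub.exists_generated f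
  choose v hv using hv
  haveI := hi; haveI := hci; haveI := hred; haveI := hgr
  obtain ⟨s, hs⟩ := exists_conj l' hn
  have hnorm : AlgGrp.IsNormalHom i :=
    exists_conj_generated f i v hv (GenSub.dense_carrier f i hr v hv) f' hf' s hs
  obtain ⟨H, _, e, he, hec, heo, hcH, hnH, her⟩ := exists_normal_component (X := X) i hnorm
  haveI := he; haveI := hec; haveI := heo; haveI := hcH
  haveI : Mono i := Over.mono_of_mono_left i
  haveI : AlgebraicGeometry.IsReduced H.left := isReduced_of_isOpenImmersion e.left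
  haveI : ConnectedSpace X.left := ‹ConnectedSpace L'.left›
  obtain ⟨fH, hfH⟩ : ∃ fH : X ⟶ H, fH ≫ e = f' := by
    refine DensePts.factors_of_range f' e ?_
    rw [her]
    refine (isPreconnected_range f'.left.continuous).subset_connectedComponent
      ⟨((Over.map ξ).map (η[L'] : 𝟙_ (Over (Spec (CommRingCat.of K))) ⟶ L')).left.base (IsLocalRing.closedPoint K), ?_⟩
    have h1 : ((Over.map ξ).map (η[L'] : 𝟙_ (Over (Spec (CommRingCat.of K))) ⟶ L')) ≫ f' = toUnit _ ≫ η[Γ] := by
      rw [← cancel_mono i, Category.assoc, Category.assoc, hf', IsMonHom.one_hom]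
      exact down_one l'
    exact (congr($(h1).left.base _)).trans (congrArg (η[Γ]).left.base (Subsingleton.elim (α := PrimeSpectrum k) _ _))
  let j : H ⟶ G := e ≫ i
  haveI : IsClosedImmersion j.left := by rw [Over.comp_left]; infer_instance
  haveI : LocallyOfFiniteType H.hom := by rw [← Over.w j]; infer_instance
  haveI : QuasiCompact H.hom := by rw [← Over.w j]; infer_instance
  haveI : GeometricallyReduced H.hom := by rw [← Over.w e]; exact GeomRedFieldLib.gr_comp Γ.hom e.left
  haveI : Smooth H.hom := AlbLib.smooth_grp H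
  have hfj : fH ≫ j = f := by rw [← Category.assoc, hfH, hf']
  let l : L' ⟶ Red.bc ξ H := PowEtCentralLib.adjEquiv ξ L' fH
  have hlj : l ≫ (Over.pullback ξ).map j = l' := by
    show (Over.mapPullbackAdj ξ).homEquiv _ _ fH ≫ _ = _
    rw [← Adjunction.homEquiv_naturality_right, hfj]
    exact MulEquiv.apply_symm_apply (PowEtCentralLib.adjEquiv ξ L') l'
  refine ⟨H, inferInstance, j, l, inferInstance, inferInstance, inferInstance, inferInstance, ?_, hnH, hlj⟩
  haveI : IsMonHom (M := Red.bc ξ H) (N := Red.bc ξ G) ((Over.pullback ξ).map j) := DiagRep.isMonHom_bc_map _ j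
  haveI : Mono j := Over.mono_of_mono_left j
  haveI : Mono ((Over.pullback ξ).map j) := (Over.pullback ξ).map_mono j
  haveI : IsMonHom l := by
    refine { one_hom := ?_, mul_hom := ?_ }
    · rw [← cancel_mono ((Over.pullback ξ).map j), Category.assoc, hlj, IsMonHom.one_hom]
      exact (IsMonHom.one_hom (f := (Over.pullback ξ).map j)).symm
    · rw [← cancel_mono ((Over.pullback ξ).map j), Category.assoc, hlj, IsMonHom.mul_hom, Category.assoc]
      rw [IsMonHom.mul_hom (f := (Over.pullback ξ).map j), MonoidalCategory.tensorHom_comp_tensorHom_assoc, hlj]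
  haveI : IsClosedImmersion l.left := by
    haveI : IsClosedImmersion (l.left ≫ ((Over.pullback ξ).map j).left) := by
      rw [← Over.comp_left, hlj]; infer_instance
    haveI : IsSeparated H.hom := GrpField.isSeparated_grp
    haveI : IsSeparated ((Over.pullback ξ).map j).left := by
      haveI : IsSeparated (((Over.pullback ξ).map j).left ≫ ((Over.pullback ξ).obj G).hom) := by
        rw [Over.w]; exact inferInstanceAs (IsSeparated (pullback.snd H.hom ξ))
      exact IsSeparated.of_comp _ ((Over.pullback ξ).obj G).hom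
    exact IsClosedImmersion.of_comp l.left ((Over.pullback ξ).map j).left
  refine isAffine_of_generated l ?_
  have hdl : down l = fH := MulEquiv.symm_apply_apply (PowEtCentralLib.adjEquiv ξ L') fH
  rw [hdl]
  obtain ⟨a, ha⟩ := GenSub.le_of_factors f i hr j fH hfj
  have hrj : Set.range j.left.base = closure (GenSub.wordSet f) := by
    refine Set.Subset.antisymm ?_ ?_
    · rw [← hr]; rintro _ ⟨x, rfl⟩; exact ⟨e.left.base x, rfl⟩
    · rw [← hr, ← ha]; rintro _ ⟨x, rfl⟩; exact ⟨a.left.base x, rfl⟩
  exact GenSub.dense_carrier f j hrj (fun w => GenSub.word fH w) (fun w => word_comp fH j hfj w)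

end SepNormLib
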