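import Groth.Agent.AlbLib.Torus
import Groth.Agent.AlgSpLib.ReducedSmooth
import Groth.Agent.GeomRedFieldLib.Scheme
import Groth.Agent.CohenLib.FSField
import Mathlib.RingTheory.Etale.Field

/-!
# Schemes over a separable extension, seen over the base field
-/

set_option autoImplicit false
set_option linter.style.haveILetI false
set_option backward.isDefEq.respectTransparency false
set_option maxHeartbeats 1000000

noncomputable section

universe u

open CategoryTheory CategoryTheory.Limits MonoidalCategory CartesianMonoidalCategory AlgebraicGeometry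
open scoped MonObj TensorProduct

attribute [-instance] CategoryTheory.Hom.commGroup

namespace SepNormLib

/-- Smooth schemes over geometrically reduced schemes are geometrically reduced. -/
theorem gr_smooth_comp {k : Type u} [Field k] {V X : Scheme.{u}} (a : V ⟶ X) [Smooth a]
    (f : X ⟶ Spec (CommRingCat.of k)) [GeometricallyReduced f] : GeometricallyReduced (a ≫ f) := by
  refine ⟨geometrically_iff_of_commRing_of_isClosedUnderIsomorphisms.mpr fun F _ _ => ?_⟩
  let g := Spec.map (CommRingCat.ofHom (algebraMap k F))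
  haveI : AlgebraicGeometry.IsReduced (pullback f g) := by
    have h := GeometricallyReduced.geometrically_isReduced (f := f)
    exact geometrically_iff_of_commRing_of_isClosedUnderIsomorphisms.mp h F
  haveI := AlgSpLib.isReduced_of_smooth (pullback.fst (pullback.snd a (pullback.fst f g) ≫ pullback.snd f g) (𝟙 _) ≫
    pullback.snd a (pullback.fst f g))
  exact AlgSpLib.isReduced_of_smooth ((pullbackRightPullbackFstIso f g a).inv ≫ pullback.snd a (pullback.fst f g))

theorem gr_separable (k K : Type u) [Field k] [Field K] [Algebra k K] [Algebra.IsSeparable k K] :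
    GeometricallyReduced (Spec.map (CommRingCat.ofHom (algebraMap k K))) := by
  haveI : Algebra.FormallyEtale k K := Algebra.FormallyEtale.of_isSeparable k K
  haveI : Algebra.IsGeometricallyReduced k K := CohenLib.isGeometricallyReduced_of_formallySmooth
  exact GeomRedFieldLib.gr_str K

/-- Homomorphisms after composing two base changes. -/
theorem exists_bc_comp' {S S' S'' : Scheme.{u}} (g : S'' ⟶ S') (f : S' ⟶ S) (T : Over S) [GrpObj T] :
    ∃ e : Red.bc g (Red.bc f T) ⟶ Red.bc (g ≫ f) T, IsMonHom e ∧ IsIso e ∧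
      e.left ≫ pullback.fst T.hom (g ≫ f) = pullback.fst (Red.bc f T).hom g ≫ pullback.fst T.hom f := by
  have h := AlbLib.isMonHom_app (Over.pullbackComp g f).hom T
  haveI : IsMonHom (M := Red.bc (g ≫ f) T) (N := Red.bc g (Red.bc f T)) ((Over.pullbackComp g f).app T).hom := by
    refine { one_hom := ?_, mul_hom := ?_ }
    · have := h.one_hom
      simpa [Functor.obj.η_def] using this
    · have := h.mul_hom
      simpa [Functor.obj.μ_def] using this
  refine ⟨((Over.pullbackComp g f).app T).inv, inferInstance, inferInstance, ?_⟩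
  simp [Over.pullbackComp]
  exact Category.id_comp _

/-- Every point of the extension of scalars to an algebraically closed field comes from an embedding. -/
theorem exists_embedding {k K F : Type u} [Field k] [Field K] [Algebra k K] [Algebra.IsAlgebraic k K] [Field F]
    [Algebra k F] [IsAlgClosed F]
    (s : ↥(pullback (Spec.map (CommRingCat.ofHom (algebraMap k K))) (Spec.map (CommRingCat.ofHom (algebraMap k F))))) :
    ∃ (σ : Spec (CommRingCat.of F) ⟶ Spec (CommRingCat.of K))
      (hσ : σ ≫ Spec.map (CommRingCat.ofHom (algebraMap k K)) = Spec.map (CommRingCat.ofHom (algebraMap k F)))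
      (z : ↥(Spec (CommRingCat.of F))), (pullback.lift σ (𝟙 _) (by rw [hσ, Category.id_comp])).base z = s := by
  obtain ⟨p, rfl⟩ := (pullbackSpecIso k K F).inv.surjective s
  haveI : Algebra.IsIntegral k K := Algebra.IsAlgebraic.isIntegral
  haveI : Algebra.IsIntegral F (F ⊗[k] K) := inferInstance
  let q : Ideal (F ⊗[k] K) := p.asIdeal.comap (Algebra.TensorProduct.comm k F K).toRingEquiv.toRingHom
  haveI : q.IsPrime := Ideal.comap_isPrime _ _
  haveI : Algebra.IsIntegral F ((F ⊗[k] K) ⧸ q) := Algebra.IsIntegral.of_surjective (Ideal.Quotient.mkₐ F q)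
    Ideal.Quotient.mk_surjective
  let eq : F ≃ₐ[F] (F ⊗[k] K) ⧸ q := AlgEquiv.ofBijective (Algebra.ofId F _)
    IsAlgClosed.algebraMap_bijective_of_isIntegral
  let φ : F ⊗[k] K →ₐ[F] F := eq.symm.toAlgHom.comp (Ideal.Quotient.mkₐ F q)
  let φ' : K ⊗[k] F →ₐ[k] F := (φ.restrictScalars k).comp (Algebra.TensorProduct.comm k K F).toAlgHom
  let σR : K →ₐ[k] F := φ'.comp Algebra.TensorProduct.includeLeft
  have hσ : Spec.map (CommRingCat.ofHom σR.toRingHom) ≫ Spec.map (CommRingCat.ofHom (algebraMap k K)) =
      Spec.map (CommRingCat.ofHom (algebraMap k F)) := by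
    rw [← Spec.map_comp, ← CommRingCat.ofHom_comp]
    exact congrArg (fun r => Spec.map (CommRingCat.ofHom r)) σR.comp_algebraMap
  refine ⟨_, hσ, IsLocalRing.closedPoint F, ?_⟩
  have hl : pullback.lift (Spec.map (CommRingCat.ofHom σR.toRingHom)) (𝟙 _) (by rw [hσ, Category.id_comp]) =
      Spec.map (CommRingCat.ofHom φ'.toRingHom) ≫ (pullbackSpecIso k K F).inv := by
    refine pullback.hom_ext ?_ ?_
    · rw [pullback.lift_fst, Category.assoc, pullbackSpecIso_inv_fst, ← Spec.map_comp, ← CommRingCat.ofHom_comp]
      rfl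
    · rw [pullback.lift_snd, Category.assoc, pullbackSpecIso_inv_snd, ← Spec.map_comp, ← CommRingCat.ofHom_comp,
        ← Spec.map_id, ← CommRingCat.ofHom_id]
      refine congrArg (fun r => Spec.map (CommRingCat.ofHom r)) (RingHom.ext fun x => ?_)
      show x = φ' ((1 : K) ⊗ₜ[k] x)
      show x = φ (x ⊗ₜ[k] (1 : K))
      exact (φ.commutes x).symm
  rw [hl, Scheme.Hom.comp_apply]
  refine congrArg (pullbackSpecIso k K F).inv.base (PrimeSpectrum.ext ?_)
  show Ideal.comap φ'.toRingHom (IsLocalRing.maximalIdeal F) = p.asIdeal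
  rw [IsLocalRing.maximalIdeal_eq_bot]
  ext y
  obtain ⟨x, rfl⟩ := (Algebra.TensorProduct.comm k F K).surjective y
  show φ' ((Algebra.TensorProduct.comm k F K) x) ∈ (⊥ : Ideal F) ↔ _
  rw [Ideal.mem_bot]
  show φ ((Algebra.TensorProduct.comm k K F) ((Algebra.TensorProduct.comm k F K) x)) = 0 ↔ _
  rw [← Algebra.TensorProduct.comm_symm, AlgEquiv.symm_apply_apply]
  show eq.symm (Ideal.Quotient.mkₐ F q x) = 0 ↔ _
  rw [EmbeddingLike.map_eq_zero_iff]
  exact Ideal.Quotient.eq_zero_iff_mem

end SepNormLib
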